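import Mathlib
import Cfsg.Agent.Lib.Comput.Check3
import Cfsg.Agent.Lib.J2.H.Data

/-! generated by tools/cgt -/

set_option autoImplicit false
set_option maxRecDepth 100000
set_option Elab.async false

namespace CfsgLib.J2.H

open CfsgLib.Comput

def R3_0 : RepC := ⟨12, 1, [],
  []⟩
def R3_1 : RepC := ⟨13, 1, [],
  []⟩
def R3_2 : RepC := ⟨0xd0d, 1, [],
  []⟩
def S3_0 : GenC := ⟨13, [],
  [(0, 0, 0, 2, 0), (0, 1, 0, 0, 0), (0, 2, 0, 3, 0), (0, 3, 0, 1, 0)], 0⟩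
def L3 : Level := ⟨0x0, 0x1800, [], 1, 31, 0, 4, [R3_0, R3_1, R3_2], [S3_0]⟩
def X3 : Ext := [(11, 13, 0)]

def R2_0 : RepC := ⟨8, 1, [(12, 12)],
  [(77, 3, [1])]⟩
def R2_1 : RepC := ⟨9, 1, [(13, 13)],
  [(2, 3, [1])]⟩
def R2_2 : RepC := ⟨0x909, 1, [(13, 13)],
  [(77, 3, [1])]⟩
def S2_0 : GenC := ⟨9, [(13, 13)],
  [(0, 0, 0, 2, 0), (0, 1, 0, 0, 0), (0, 2, 0, 3, 0), (0, 3, 0, 1, 0)], 0⟩
def L2 : Level := ⟨0x1800, 0x1f80, [13], 4, 16, 0, 4, [R2_0, R2_1, R2_2], [S2_0]⟩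
def X2 : Ext := [(7, 9, 0), (9, 0, 12), (10, 10, 0)]

def R1_0 : RepC := ⟨0x70807, 1, [(13, 13), (0x90c, 8)],
  [(51, 3, [1, 2])]⟩
def R1_1 : RepC := ⟨7, 4, [(12, 12)],
  [(40, 3, [1])]⟩
def S1_0 : GenC := ⟨7, [(13, 13)],
  [(0, 0, 0, 2, 0), (9, 2, 0, 0, 0x80c), (0, 2, 9, 2, 0x90d), (0x909, 2, 8, 2, 0x80d0d), (8, 2, 0, 1, 0), (0, 1, 0x909, 2, 0x90d0d)], 0⟩
def L1 : Level := ⟨0x1f80, 0x1ff8, [9, 13], 16, 38, 0, 6, [R1_0, R1_1], [S1_0]⟩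
def X1 : Ext := [(5, 7, 0), (3, 0, 0x80c), (4, 4, 0)]

def R0_0 : RepC := ⟨15, 6, [(13, 0x807), (0x80d, 0x70807090d0d)],
  [(15, 3, [1, 2])]⟩
def R0_1 : RepC := ⟨2, 24, [(0x609, 0x609)],
  [(29, 3, [1])]⟩
def R0_2 : RepC := ⟨1, 32, [(0x906090c, 0x906090c)],
  [(50, 2, [1])]⟩
def S0_0 : GenC := ⟨14, [(8, 0x8070c), (12, 0x609)],
  [(0, 0, 7, 1, 0x70909), (0, 3, 5, 3, 0x807090d), (0, 2, 0x80d, 3, 0x90d0d), (6, 3, 8, 2, 0x7080709), (0, 1, 0, 0, 0), (7, 1, 0, 2, 0x70807090c), (0x70807, 1, 0x906, 1, 0x80709090c), (0x708, 2, 0x408, 2, 0x8070d0d), (6, 2, 0x807, 1, 0x8070c)], 3⟩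
def L0 : Level := ⟨0x1ff8, 0x7fff, [7, 9, 13], 96, 1, 0, 63, [R0_0, R0_1, R0_2], [S0_0]⟩
def X0 : Ext := [(14, 14, 0), (0, 0, 0xe0e090e060c), (1, 0, 0xe0e060d0d), (2, 2, 0)]

def top : List ℕ := [1, 2]
def gs : List ℕ := [14, 7, 9, 13]
def XD : Ext := [(2, 2, 0), (3, 0, 0x1030103010303010301), (4, 4, 0), (5, 0, 0x20102020102020103030103), (6, 6, 0), (7, 0, 0x7050606), (8, 8, 0), (9, 0, 0x70407070407), (10, 10, 0), (11, 0, 0x90a08), (12, 12, 0), (13, 0, 0x102), (14, 14, 0)]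
def MX : Level.MaxC := [[(7, [0x70909])], [(0x70708, [12, 0x906080d])], [(0x70708, [0x60d, 0x807])]]
def NC : NclD := ⟨14, 7, [(0, [8, 0x2080e070807080d]), (1, [13, 0x709090d0d])]⟩

/-- all the equations of the certificate -/
structure Eqs {G : Type*} [Group G] (g : ℕ → G) : Prop where
  l3 : AllHold g L3.eqns
  x3 : AllHold g X3.eqns
  l2 : AllHold g L2.eqns
  x2 : AllHold g X2.eqns
  l1 : AllHold g L1.eqns
  x1 : AllHold g X1.eqns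
  l0 : AllHold g L0.eqns
  x0 : AllHold g X0.eqns
  xd : AllHold g XD.eqns
  mx : AllHold g (L0.maxEqns MX)
  nc : AllHold g NC.eqns

end CfsgLib.J2.H
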